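import Mathlib

/-! # Uniform presentations: algebra (quantitative Schanuel, descent of presentations,
products of uniformly presented modules) -/

set_option autoImplicit false
universe u
open TensorProduct

namespace Groth.Agent.H3.Nis2

section SQ
variable {R : Type u} [CommRing R] {F₁ F₂ Q : Type u} [AddCommGroup F₁] [Module R F₁]
  [AddCommGroup F₂] [Module R F₂] [AddCommGroup Q] [Module R Q]

/-- quantitative Schanuel: the kernel of a surjection from an `n₁`-generated projective module onto
a module with a presentation with `b` relations is generated by `n₁ + b` elements. -/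
theorem exists_generators_ker [Module.Projective R F₁] [Module.Projective R F₂]
    (π₁ : F₁ →ₗ[R] Q) (π₂ : F₂ →ₗ[R] Q) (h₁ : Function.Surjective π₁)
    (h₂ : Function.Surjective π₂)
    {n₁ b : ℕ} (g : Fin n₁ → F₁) (hg : Submodule.span R (Set.range g) = ⊤)
    (t : Fin b → F₂) (ht : Submodule.span R (Set.range t) = LinearMap.ker π₂) :
    ∃ d : Fin (n₁ + b) → F₁, Submodule.span R (Set.range d) = LinearMap.ker π₁ := by
  obtain ⟨α, hα⟩ := Module.projective_lifting_property π₂ π₁ h₂
  obtain ⟨β, hβ⟩ := Module.projective_lifting_property π₁ π₂ h₁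
  have hα' : ∀ x, π₂ (α x) = π₁ x := fun x => LinearMap.congr_fun hα x
  have hβ' : ∀ y, π₁ (β y) = π₂ y := fun y => LinearMap.congr_fun hβ y
  refine ⟨Sum.elim (fun i => g i - β (α (g i))) (fun j => β (t j)) ∘ finSumFinEquiv.symm, ?_⟩
  rw [EquivLike.range_comp, Set.Sum.elim_range]
  apply le_antisymm
  · rw [Submodule.span_le]
    rintro x (⟨i, rfl⟩ | ⟨j, rfl⟩)
    · show π₁ (g i - β (α (g i))) = 0
      rw [map_sub, hβ', hα', sub_self]
    · show π₁ (β (t j)) = 0
      rw [hβ']
      have h : t j ∈ LinearMap.ker π₂ := by rw [← ht]; exact Submodule.subset_span ⟨j, rfl⟩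
      exact h
  · intro x hx
    have hx0 : π₁ x = 0 := hx
    have h1 : α x ∈ Submodule.span R (Set.range t) := by
      rw [ht]
      show π₂ (α x) = 0
      rw [hα', hx0]
    have h2 : β (α x) ∈ Submodule.span R (Set.range fun j => β (t j)) := by
      have h := Submodule.apply_mem_span_image_of_mem_span β h1
      rwa [← Set.range_comp] at h
    have h3 : x - β (α x) ∈ Submodule.span R (Set.range fun i => g i - β (α (g i))) := by
      have hx' : x ∈ Submodule.span R (Set.range g) := by rw [hg]; trivial
      have h := Submodule.apply_mem_span_image_of_mem_span (LinearMap.id - β.comp α) hx'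
      rw [← Set.range_comp] at h
      exact h
    have hx2 : x = (x - β (α x)) + β (α x) := by abel
    rw [hx2]
    exact Submodule.add_mem _ (Submodule.span_mono Set.subset_union_left h3)
      (Submodule.span_mono Set.subset_union_right h2)

end SQ

section Descend

variable {B C : Type u} [CommRing B] [CommRing C] [Algebra B C]

/-- descent of a presentation with bounded numbers of generators and relations along a flat ring
map for which generator counts descend (with a factor `m`). -/
theorem exists_presentation_descend [Module.Flat B C] (m : ℕ)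
    (hNis : ∀ (L : Type u) [AddCommGroup L] [Module B L] [Module.Finite B L] (N : ℕ),
      (∃ d : Fin N → C ⊗[B] L, Submodule.span C (Set.range d) = ⊤) →
      ∃ s : Fin (N * m) → L, Submodule.span B (Set.range s) = ⊤)
    (M : Type u) [AddCommGroup M] [Module B M] [Module.FinitePresentation B M]
    (Q : Type u) [AddCommGroup Q] [Module C Q] (e : (C ⊗[B] M) ≃ₗ[C] Q)
    (a b : ℕ) (dQ : Fin a → Q) (hdQ : Submodule.span C (Set.range dQ) = ⊤)
    (F₂ : Type u) [AddCommGroup F₂] [Module C F₂] [Module.Projective C F₂]
    (σ : F₂ →ₗ[C] Q) (hσ : Function.Surjective σ)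
    (t : Fin b → F₂) (ht : Submodule.span C (Set.range t) = LinearMap.ker σ) :
    ∃ (s : Fin (a * m) → M) (t' : Fin ((a * m + b) * m) → (Fin (a * m) → B)),
      Submodule.span B (Set.range s) = ⊤ ∧
      Submodule.span B (Set.range t') = LinearMap.ker (Fintype.linearCombination B s) := by
  classical
  -- generators of `M`
  have hgenM : ∃ d : Fin a → C ⊗[B] M, Submodule.span C (Set.range d) = ⊤ := by
    refine ⟨fun i => e.symm (dQ i), ?_⟩
    have h2 : (Set.range fun i : Fin a => e.symm (dQ i)) =
        e.symm.toLinearMap '' (Set.range dQ) := by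
      rw [← Set.range_comp]
      rfl
    rw [h2, ← Submodule.map_span, hdQ, Submodule.map_top, LinearMap.range_eq_top]
    exact e.symm.surjective
  obtain ⟨s, hs⟩ := hNis M a hgenM
  obtain ⟨π, hπ⟩ : ∃ π : (Fin (a * m) → B) →ₗ[B] M, π = Fintype.linearCombination B s := ⟨_, rfl⟩
  have hπs : Function.Surjective π := by
    rw [← LinearMap.range_eq_top, hπ, Fintype.range_linearCombination, hs]
  have hKfg : (LinearMap.ker π).FG := Module.FinitePresentation.fg_ker π hπs
  haveI : Module.Finite B ↥(LinearMap.ker π) := Module.Finite.iff_fg.mpr hKfg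
  -- base change
  obtain ⟨ιC, hιC⟩ : ∃ ιC : C ⊗[B] ↥(LinearMap.ker π) →ₗ[C] C ⊗[B] (Fin (a * m) → B),
      ιC = (LinearMap.ker π).subtype.baseChange C := ⟨_, rfl⟩
  obtain ⟨πC, hπC⟩ : ∃ πC : C ⊗[B] (Fin (a * m) → B) →ₗ[C] C ⊗[B] M,
      πC = π.baseChange C := ⟨_, rfl⟩
  have hιinj : Function.Injective ιC := by
    rw [hιC, LinearMap.baseChange_eq_ltensor]
    exact Module.Flat.lTensor_preserves_injective_linearMap _ (Submodule.injective_subtype _)
  have hexact : Function.Exact ιC πC := by
    rw [hιC, hπC, LinearMap.baseChange_eq_ltensor, LinearMap.baseChange_eq_ltensor]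
    exact Module.Flat.lTensor_exact C (LinearMap.exact_subtype_ker_map π)
  have hπCs : Function.Surjective πC := by
    rw [hπC, LinearMap.baseChange_eq_ltensor]
    exact LinearMap.lTensor_surjective C hπs
  -- generators of the free module
  obtain ⟨g, hg⟩ : ∃ g : Fin (a * m) → C ⊗[B] (Fin (a * m) → B),
      Submodule.span C (Set.range g) = ⊤ := by
    refine ⟨fun i => (TensorProduct.piScalarRight B C C (Fin (a * m))).symm (Pi.single i 1), ?_⟩
    have h1 : Submodule.span C (Set.range fun i : Fin (a * m) =>
        (Pi.single i 1 : Fin (a * m) → C)) = ⊤ := by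
      have := (Pi.basisFun C (Fin (a * m))).span_eq
      rw [← this]
      congr 1
      ext x
      simp [Pi.basisFun_apply]
    have h2 : (Set.range fun i : Fin (a * m) =>
        (TensorProduct.piScalarRight B C C (Fin (a * m))).symm (Pi.single i 1)) =
        ((TensorProduct.piScalarRight B C C (Fin (a * m))).symm.toLinearMap) ''
          (Set.range fun i : Fin (a * m) => (Pi.single i 1 : Fin (a * m) → C)) := by
      rw [← Set.range_comp]
      rfl
    rw [h2, ← Submodule.map_span, h1, Submodule.map_top, LinearMap.range_eq_top]
    exact (TensorProduct.piScalarRight B C C (Fin (a * m))).symm.surjective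
  obtain ⟨d, hd⟩ := exists_generators_ker (e.toLinearMap.comp πC) σ
    (e.surjective.comp hπCs) hσ g hg t ht
  have hker : LinearMap.ker (e.toLinearMap.comp πC) = LinearMap.range ιC := by
    rw [LinearMap.ker_comp, LinearEquiv.ker, Submodule.comap_bot]
    exact (LinearMap.exact_iff.mp hexact)
  have hdmem : ∀ j, d j ∈ LinearMap.range ιC := by
    intro j
    rw [← hker, ← hd]
    exact Submodule.subset_span ⟨j, rfl⟩
  choose d' hd' using hdmem
  have hgenK : Submodule.span C (Set.range d') = ⊤ := by
    apply Submodule.map_injective_of_injective hιinj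
    rw [Submodule.map_span, Submodule.map_top, ← hker, ← hd]
    congr 1
    rw [← Set.range_comp]
    congr 1
    ext j
    exact hd' j
  obtain ⟨s', hs'⟩ := hNis ↥(LinearMap.ker π) (a * m + b) ⟨d', hgenK⟩
  refine ⟨s, fun j => ((s' j : ↥(LinearMap.ker π)) : Fin (a * m) → B), hs, ?_⟩
  rw [← hπ]
  have h3 : (Set.range fun j => ((s' j : ↥(LinearMap.ker π)) : Fin (a * m) → B)) =
      (LinearMap.ker π).subtype '' Set.range s' := by
    rw [← Set.range_comp]
    rfl
  rw [h3, ← Submodule.map_span, hs', Submodule.map_top, Submodule.range_subtype]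

end Descend

section Transfer

variable {R R' N : Type u} [CommRing R] [CommRing R'] [Algebra R R'] [AddCommGroup N]
  [Module R N] [Module R' N] [IsScalarTower R R' N]

/-- transfer of a presentation along a bijective ring map. -/
theorem presentation_transfer (hbij : Function.Bijective (algebraMap R R')) {n₁ n₂ : ℕ}
    (s : Fin n₁ → N) (t : Fin n₂ → (Fin n₁ → R))
    (hs : Submodule.span R (Set.range s) = ⊤)
    (ht : Submodule.span R (Set.range t) = LinearMap.ker (Fintype.linearCombination R s)) :
    Submodule.span R' (Set.range s) = ⊤ ∧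
      Submodule.span R' (Set.range fun j => fun k => algebraMap R R' (t j k)) =
        LinearMap.ker (Fintype.linearCombination R' s) := by
  constructor
  · rw [eq_top_iff]
    intro x _
    have hx : x ∈ Submodule.span R (Set.range s) := by rw [hs]; trivial
    exact Submodule.span_le_restrictScalars R R' _ hx
  · have hlc : ∀ z : Fin n₁ → R, Fintype.linearCombination R' s (fun k => algebraMap R R' (z k)) =
        Fintype.linearCombination R s z := by
      intro z
      rw [Fintype.linearCombination_apply, Fintype.linearCombination_apply]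
      refine Finset.sum_congr rfl fun k _ => ?_
      rw [algebraMap_smul]
    apply le_antisymm
    · rw [Submodule.span_le]
      rintro _ ⟨j, rfl⟩
      show Fintype.linearCombination R' s (fun k => algebraMap R R' (t j k)) = 0
      rw [hlc]
      have h : t j ∈ LinearMap.ker (Fintype.linearCombination R s) := by
        rw [← ht]; exact Submodule.subset_span ⟨j, rfl⟩
      exact h
    · intro y hy
      have hy0 : Fintype.linearCombination R' s y = 0 := hy
      obtain ⟨z, hz⟩ : ∃ z : Fin n₁ → R, (fun k => algebraMap R R' (z k)) = y := by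
        choose z hz using fun k => hbij.2 (y k)
        exact ⟨z, funext hz⟩
      subst hz
      rw [hlc] at hy0
      have hz' : z ∈ Submodule.span R (Set.range t) := by rw [ht]; exact hy0
      obtain ⟨c, hc⟩ := (Submodule.mem_span_range_iff_exists_fun R).mp hz'
      have h2 : (fun k => algebraMap R R' (z k)) =
          ∑ j, algebraMap R R' (c j) • (fun k => algebraMap R R' (t j k)) := by
        funext k
        rw [← hc]
        simp [Finset.sum_apply, map_sum, map_mul, Algebra.smul_def]
      rw [h2]
      exact Submodule.sum_mem _ fun j _ => Submodule.smul_mem _ _ (Submodule.subset_span ⟨j, rfl⟩)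

end Transfer

section Prod

variable {ι : Type u} (R' : ι → Type u) (N : ι → Type u) [∀ i, CommRing (R' i)]
  [∀ i, AddCommGroup (N i)] [∀ i, Module (R' i) (N i)]

/-- a product of modules with presentations of uniformly bounded size is finitely presented over
the product ring. -/
theorem finitePresentation_pi (n₁ n₂ : ℕ) (s : ∀ i, Fin n₁ → N i)
    (t : ∀ i, Fin n₂ → (Fin n₁ → R' i))
    (hs : ∀ i, Submodule.span (R' i) (Set.range (s i)) = ⊤)
    (ht : ∀ i, Submodule.span (R' i) (Set.range (t i)) =
      LinearMap.ker (Fintype.linearCombination (R' i) (s i))) :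
    Module.FinitePresentation (∀ i, R' i) (∀ i, N i) := by
  classical
  obtain ⟨S, hS⟩ : ∃ S : Fin n₁ → (∀ i, N i), S = fun k i => s i k := ⟨_, rfl⟩
  obtain ⟨Φ, hΦ⟩ : ∃ Φ : (Fin n₁ → ∀ i, R' i) →ₗ[∀ i, R' i] (∀ i, N i),
      Φ = Fintype.linearCombination (∀ i, R' i) S := ⟨_, rfl⟩
  have hΦapp : ∀ (x : Fin n₁ → ∀ i, R' i) (i : ι),
      Φ x i = Fintype.linearCombination (R' i) (s i) (fun k => x k i) := by
    intro x i
    rw [hΦ, Fintype.linearCombination_apply, Fintype.linearCombination_apply, Finset.sum_apply]
    refine Finset.sum_congr rfl fun k _ => ?_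
    rw [hS]
    rfl
  have hsurj : Function.Surjective Φ := by
    intro y
    have h : ∀ i, ∃ c : Fin n₁ → R' i, Fintype.linearCombination (R' i) (s i) c = y i := by
      intro i
      have hy : y i ∈ LinearMap.range (Fintype.linearCombination (R' i) (s i)) := by
        rw [Fintype.range_linearCombination, hs i]; trivial
      exact hy
    choose c hc using h
    refine ⟨fun k i => c i k, funext fun i => ?_⟩
    rw [hΦapp]
    exact hc i
  have hker : (LinearMap.ker Φ).FG := by
    have hk : LinearMap.ker Φ =
        Submodule.span (∀ i, R' i) (Set.range fun j : Fin n₂ => fun k i => t i j k) := by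
      apply le_antisymm
      · intro x hx
        have hx0 : Φ x = 0 := hx
        have h : ∀ i, ∃ c : Fin n₂ → R' i, ∑ j, c j • t i j = fun k => x k i := by
          intro i
          have h1 : (fun k => x k i) ∈ LinearMap.ker (Fintype.linearCombination (R' i) (s i)) := by
            show Fintype.linearCombination (R' i) (s i) (fun k => x k i) = 0
            rw [← hΦapp, hx0]
            rfl
          rw [← ht i] at h1
          exact (Submodule.mem_span_range_iff_exists_fun (R' i)).mp h1
        choose c hc using h
        have hx2 : x = ∑ j, (fun i => c i j) • (fun k i => t i j k) := by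
          funext k i
          have := congrFun (hc i) k
          rw [← this]
          simp [Finset.sum_apply]
        rw [hx2]
        exact Submodule.sum_mem _ fun j _ =>
          Submodule.smul_mem _ _ (Submodule.subset_span ⟨j, rfl⟩)
      · rw [Submodule.span_le]
        rintro _ ⟨j, rfl⟩
        show Φ (fun k i => t i j k) = 0
        funext i
        rw [hΦapp]
        have h1 : t i j ∈ LinearMap.ker (Fintype.linearCombination (R' i) (s i)) := by
          rw [← ht i]; exact Submodule.subset_span ⟨j, rfl⟩
        exact h1
    rw [hk]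
    exact Submodule.fg_span (Set.finite_range _)
  exact Module.finitePresentation_of_surjective Φ hsurj hker

end Prod

section BC

variable {D C : Type u} [CommRing D] [CommRing C] [Algebra D C]

/-- base change of a presentation. -/
theorem presentation_baseChange (P : Type u) [AddCommGroup P] [Module D P]
    {a b : ℕ} (sP : Fin a → P) (tP : Fin b → (Fin a → D))
    (hs : Submodule.span D (Set.range sP) = ⊤)
    (ht : Submodule.span D (Set.range tP) = LinearMap.ker (Fintype.linearCombination D sP)) :
    Submodule.span C (Set.range fun i => (1 : C) ⊗ₜ[D] sP i) = ⊤ ∧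
    Function.Surjective ((Fintype.linearCombination D sP).baseChange C) ∧
    Submodule.span C (Set.range fun j => (1 : C) ⊗ₜ[D] tP j) =
      LinearMap.ker ((Fintype.linearCombination D sP).baseChange C) := by
  have hsurj : Function.Surjective (Fintype.linearCombination D sP) := by
    rw [← LinearMap.range_eq_top, Fintype.range_linearCombination, hs]
  refine ⟨?_, ?_, ?_⟩
  · have h1 : (Set.range fun i => (1 : C) ⊗ₜ[D] sP i) =
        TensorProduct.mk D C P 1 '' Set.range sP := by
      rw [← Set.range_comp]
      rfl
    rw [h1, ← Submodule.baseChange_span, hs, Submodule.baseChange_top]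
  · rw [LinearMap.baseChange_eq_ltensor]
    exact LinearMap.lTensor_surjective C hsurj
  · have h1 : (Set.range fun j => (1 : C) ⊗ₜ[D] tP j) =
        TensorProduct.mk D C (Fin a → D) 1 '' Set.range tP := by
      rw [← Set.range_comp]
      rfl
    rw [h1, ← Submodule.baseChange_span, ht]
    have hex : Function.Exact
        ((LinearMap.ker (Fintype.linearCombination D sP)).subtype.baseChange C)
        ((Fintype.linearCombination D sP).baseChange C) :=
      lTensor_exact C (LinearMap.exact_subtype_ker_map _) hsurj
    rw [LinearMap.exact_iff] at hex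
    rw [hex]
    rfl

end BC

end Groth.Agent.H3.Nis2
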