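import Groth.Agent.Lib.Helper3.Nis2.Alg
import Groth.Agent.Lib.Helper3.Nis.Main
import Groth.Agent.Lib.Lead.QC.FinPres

/-!
# Uniform presentations of the pullbacks of a finitely presented module
-/

set_option autoImplicit false
universe u
open CategoryTheory Limits AlgebraicGeometry TensorProduct

namespace Groth.Agent.H3.Nis2

open Groth.Agent.LD.QC

/-- precomposing a Nisnevich cover with an isomorphism. -/
theorem isNisCoverLen_iso_comp {U U' Y : Scheme.{u}} (e : U' ≅ U) (f : U ⟶ Y) (m : ℕ)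
    (hf : W4c5algebraiztannaka.IsNisCoverLen f m) :
    W4c5algebraiztannaka.IsNisCoverLen (e.hom ≫ f) m := by
  obtain ⟨het, Z, h0, h1, hmono, hc, hsec⟩ := hf
  haveI := het
  refine ⟨inferInstance, Z, h0, h1, hmono, hc, fun k => ?_⟩
  obtain ⟨T, g, s, hg, hr, hs⟩ := hsec k
  exact ⟨T, g, s ≫ e.inv, hg, hr, by rw [Category.assoc, Iso.inv_hom_id_assoc, hs]⟩

/-- generator counts descend along an affine Nisnevich cover of length `m` (with a factor `m`). -/
theorem exists_generators_of_tensor (B C : Type u) [CommRing B] [CommRing C] [Algebra B C] (m : ℕ)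
    (hφ : W4c5algebraiztannaka.IsNisCoverLen
      (Spec.map (CommRingCat.ofHom (algebraMap B C))) m)
    (L : Type u) [AddCommGroup L] [Module B L] [Module.Finite B L] (N : ℕ)
    (hgen : ∃ d : Fin N → C ⊗[B] L, Submodule.span C (Set.range d) = ⊤) :
    ∃ s : Fin (N * m) → L, Submodule.span B (Set.range s) = ⊤ := by
  obtain ⟨d, hd⟩ := hgen
  obtain ⟨e⟩ := nonempty_extendScalars_iso B C L
  obtain ⟨ℓ₀, hℓ₀⟩ : ∃ ℓ₀ : (ULift.{u} (Fin N) →₀ C) →ₗ[C] C ⊗[B] L,
      ℓ₀ = Finsupp.linearCombination C (fun j => d j.down) := ⟨_, rfl⟩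
  have hsurj : Function.Surjective ℓ₀ := by
    rw [← LinearMap.range_eq_top, hℓ₀, Finsupp.range_linearCombination, eq_top_iff, ← hd]
    apply Submodule.span_mono
    rintro _ ⟨i, rfl⟩
    exact ⟨⟨i⟩, rfl⟩
  have hepi0 : Epi (ModuleCat.ofHom ℓ₀) := (ModuleCat.epi_iff_surjective _).mpr hsurj
  obtain ⟨ℓ, hℓ⟩ : ∃ ℓ : ModuleCat.of C (ULift.{u} (Fin N) →₀ C) ⟶
      (ModuleCat.extendScalars.{u, u, u} (algebraMap B C)).obj (ModuleCat.of B L),
      ℓ = ModuleCat.ofHom ℓ₀ ≫ e.inv := ⟨_, rfl⟩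
  have hepi : Epi ℓ := by
    rw [hℓ]
    exact epi_comp _ _
  haveI : (tilde.functor (CommRingCat.of C)).PreservesEpimorphisms :=
    Functor.preservesEpimorphisms_of_adjunction (tilde.adjunction (R := CommRingCat.of C))
  have h1 : Epi ((tilde.functor (CommRingCat.of C)).map ℓ) :=
    (tilde.functor (CommRingCat.of C)).map_epi ℓ
  have h2 : IsIso ((tildePullbackIso (CommRingCat.ofHom (algebraMap B C))).app
      (ModuleCat.of B L)).inv := Iso.isIso_inv _
  have h2' : Epi ((tildePullbackIso (CommRingCat.ofHom (algebraMap B C))).app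
      (ModuleCat.of B L)).inv := @IsIso.epi_of_iso _ _ _ _ _ h2
  have h3 : IsIso (freeModTildeIso (CommRingCat.of C) N).hom := Iso.isIso_hom _
  have h3' : Epi (freeModTildeIso (CommRingCat.of C) N).hom := @IsIso.epi_of_iso _ _ _ _ _ h3
  have h4 : Epi ((tilde.functor (CommRingCat.of C)).map ℓ ≫
      ((tildePullbackIso (CommRingCat.ofHom (algebraMap B C))).app (ModuleCat.of B L)).inv) :=
    @epi_comp _ _ _ _ _ _ h1 _ h2'
  exact Groth.Agent.H3.Nis.exists_generators (CommRingCat.of B) (ModuleCat.of B L)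
    (Spec.map (CommRingCat.ofHom (algebraMap B C))) m N hφ
    ⟨(freeModTildeIso (CommRingCat.of C) N).hom ≫ (tilde.functor (CommRingCat.of C)).map ℓ ≫
      ((tildePullbackIso (CommRingCat.ofHom (algebraMap B C))).app (ModuleCat.of B L)).inv,
      @epi_comp _ _ _ _ _ _ h3' _ h4⟩

/-- an isomorphism of pullbacks of `M~`, `P~` to a common affine scheme gives an isomorphism of
base changes. -/
theorem nonempty_tensor_equiv (B D C : Type u) [CommRing B] [CommRing D] [CommRing C]
    [Algebra B C] [Algebra D C]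
    (M : Type u) [AddCommGroup M] [Module B M] (P : Type u) [AddCommGroup P] [Module D P]
    (θ : (Scheme.Modules.pullback (Spec.map (CommRingCat.ofHom (algebraMap B C)))).obj
        (tilde (ModuleCat.of B M)) ≅
      (Scheme.Modules.pullback (Spec.map (CommRingCat.ofHom (algebraMap D C)))).obj
        (tilde (ModuleCat.of D P))) :
    Nonempty ((C ⊗[B] M) ≃ₗ[C] (C ⊗[D] P)) := by
  obtain ⟨e1⟩ := nonempty_extendScalars_iso B C M
  obtain ⟨e2⟩ := nonempty_extendScalars_iso D C P
  have θ' : (tilde.functor (CommRingCat.of C)).obj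
        ((ModuleCat.extendScalars.{u, u, u} (algebraMap B C)).obj (ModuleCat.of B M)) ≅
      (tilde.functor (CommRingCat.of C)).obj
        ((ModuleCat.extendScalars.{u, u, u} (algebraMap D C)).obj (ModuleCat.of D P)) :=
    ((tildePullbackIso (CommRingCat.ofHom (algebraMap B C))).app (ModuleCat.of B M)).symm ≪≫ θ ≪≫
      (tildePullbackIso (CommRingCat.ofHom (algebraMap D C))).app (ModuleCat.of D P)
  exact ⟨(e1.symm ≪≫ (tilde.fullyFaithfulFunctor (R := CommRingCat.of C)).preimageIso θ' ≪≫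
    e2).toLinearEquiv⟩

/-- descent of presentations along an affine Nisnevich cover. -/
theorem exists_presentation_of_cover (B D C : CommRingCat.{u}) (φ : B ⟶ C) (ψ : D ⟶ C) (m : ℕ)
    (hφ : W4c5algebraiztannaka.IsNisCoverLen (Spec.map φ) m)
    (M : ModuleCat.{u} B) [Module.FinitePresentation B M] (P : ModuleCat.{u} D)
    (θ : (Scheme.Modules.pullback (Spec.map φ)).obj (tilde M) ≅
      (Scheme.Modules.pullback (Spec.map ψ)).obj (tilde P))
    {a b : ℕ} (sP : Fin a → P) (tP : Fin b → (Fin a → D))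
    (hs : Submodule.span D (Set.range sP) = ⊤)
    (ht : Submodule.span D (Set.range tP) = LinearMap.ker (Fintype.linearCombination D sP)) :
    ∃ (s : Fin (a * m) → M) (t : Fin ((a * m + b) * m) → (Fin (a * m) → B)),
      Submodule.span B (Set.range s) = ⊤ ∧
      Submodule.span B (Set.range t) = LinearMap.ker (Fintype.linearCombination B s) := by
  letI : Algebra B C := φ.hom.toAlgebra
  letI : Algebra D C := ψ.hom.toAlgebra
  haveI hflat : Module.Flat B C := by
    haveI := hφ.etale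
    have h1 : Flat (Spec.map φ) := inferInstance
    exact (Flat.SpecMap_iff.mp h1)
  have hNis : ∀ (L : Type u) [AddCommGroup L] [Module B L] [Module.Finite B L] (N : ℕ),
      (∃ d : Fin N → C ⊗[B] L, Submodule.span C (Set.range d) = ⊤) →
      ∃ s : Fin (N * m) → L, Submodule.span B (Set.range s) = ⊤ :=
    fun L _ _ _ N hgen => exists_generators_of_tensor B C m hφ L N hgen
  obtain ⟨e⟩ := nonempty_tensor_equiv B D C M P θ
  obtain ⟨h1, h2, h3⟩ := presentation_baseChange (C := C) P sP tP hs ht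
  exact exists_presentation_descend m hNis M (C ⊗[D] P) e a b (fun i => (1 : C) ⊗ₜ[D] sP i) h1
    (C ⊗[D] (Fin a → D)) ((Fintype.linearCombination D sP).baseChange C) h2
    (fun j => (1 : C) ⊗ₜ[D] tP j) h3

/-- **uniform presentations**: if every `Spec B ⟶ X` admits an affine Nisnevich cover of length
`≤ m` factoring through a fixed affine `U ⟶ X`, then the pullbacks of a finitely presented module
to all affine schemes over `X` have presentations of uniformly bounded size. -/
theorem exists_uniform_presentation {X U : Scheme.{u}} [IsAffine U] (f : U ⟶ X) (m : ℕ)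
    (hfac : ∀ (B : CommRingCat.{u}) (g : Spec B ⟶ X),
      ∃ (V : Scheme.{u}) (_ : IsAffine V) (v : V ⟶ Spec B) (w : V ⟶ U),
        W4c5algebraiztannaka.IsNisCoverLen v m ∧ w ≫ f = v ≫ g)
    (F : X.Modules) (hF : F.IsFinitePresentation) :
    ∃ n₁ n₂ : ℕ, ∀ (B : CommRingCat.{u}) (g : Spec B ⟶ X),
      ∃ (s : Fin n₁ → Γ((Scheme.Modules.pullback g).obj F, ⊤)) (t : Fin n₂ → (Fin n₁ → B)),
        Submodule.span B (Set.range s) = ⊤ ∧
        Submodule.span B (Set.range t) = LinearMap.ker (Fintype.linearCombination B s) := by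
  classical
  haveI hFqc : F.IsQuasicoherent := inferInstance
  obtain ⟨c', hc'⟩ : ∃ c' : Spec Γ(U, ⊤) ⟶ X, c' = U.isoSpec.inv ≫ f := ⟨_, rfl⟩
  haveI hPqc : ((Scheme.Modules.pullback c').obj F).IsQuasicoherent := qc_pullback c' F
  have hPfp : ((Scheme.Modules.pullback c').obj F).IsFinitePresentation :=
    isFinitePresentation_pullback c' F hF
  obtain ⟨P, hP⟩ : ∃ P : ModuleCat.{u} Γ(U, ⊤),
      P = ΓM ((Scheme.Modules.pullback c').obj F) := ⟨_, rfl⟩
  have hPiso : tilde P ≅ (Scheme.Modules.pullback c').obj F := by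
    rw [hP]
    haveI hI : IsIso ((Scheme.Modules.pullback c').obj F).fromTildeΓ :=
      Scheme.Modules.isIso_fromTildeΓ_of_isQuasicoherent _
    exact asIso ((Scheme.Modules.pullback c').obj F).fromTildeΓ
  haveI hPfp' : Module.FinitePresentation Γ(U, ⊤) P :=
    (spec_isFinitePresentation_tilde_iff P).mp (isFinitePresentation_of_iso hPiso.symm hPfp)
  obtain ⟨a, sP, hsP⟩ := Module.Finite.exists_fin (R := Γ(U, ⊤)) (M := P)
  have hsurjP : Function.Surjective (Fintype.linearCombination Γ(U, ⊤) sP) := by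
    rw [← LinearMap.range_eq_top, Fintype.range_linearCombination, hsP]
  obtain ⟨b, tP, htP⟩ := Submodule.fg_iff_exists_fin_generating_family.mp
    (Module.FinitePresentation.fg_ker _ hsurjP)
  refine ⟨a * m, (a * m + b) * m, fun B g => ?_⟩
  obtain ⟨V, hVaff, v, w, hv, hw⟩ := hfac B g
  haveI := hVaff
  obtain ⟨φ, hφ⟩ : ∃ φ : B ⟶ Γ(V, ⊤), Spec.map φ = V.isoSpec.inv ≫ v :=
    ⟨Spec.preimage (V.isoSpec.inv ≫ v), Spec.map_preimage _⟩
  obtain ⟨ψ, hψ⟩ : ∃ ψ : Γ(U, ⊤) ⟶ Γ(V, ⊤), Spec.map ψ = V.isoSpec.inv ≫ w ≫ U.isoSpec.hom :=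
    ⟨Spec.preimage (V.isoSpec.inv ≫ w ≫ U.isoSpec.hom), Spec.map_preimage _⟩
  have hNisφ : W4c5algebraiztannaka.IsNisCoverLen (Spec.map φ) m := by
    rw [hφ]
    exact isNisCoverLen_iso_comp V.isoSpec.symm v m hv
  haveI hMqc : ((Scheme.Modules.pullback g).obj F).IsQuasicoherent := qc_pullback g F
  have hMfp : ((Scheme.Modules.pullback g).obj F).IsFinitePresentation :=
    isFinitePresentation_pullback g F hF
  obtain ⟨M, hM⟩ : ∃ M : ModuleCat.{u} B,
      M = ΓM ((Scheme.Modules.pullback g).obj F) := ⟨_, rfl⟩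
  have hMiso : tilde M ≅ (Scheme.Modules.pullback g).obj F := by
    rw [hM]
    haveI hI : IsIso ((Scheme.Modules.pullback g).obj F).fromTildeΓ :=
      Scheme.Modules.isIso_fromTildeΓ_of_isQuasicoherent _
    exact asIso ((Scheme.Modules.pullback g).obj F).fromTildeΓ
  haveI hMfp' : Module.FinitePresentation B M :=
    (spec_isFinitePresentation_tilde_iff M).mp (isFinitePresentation_of_iso hMiso.symm hMfp)
  have hcomm : Spec.map φ ≫ g = Spec.map ψ ≫ c' := by
    rw [hφ, hψ, hc']
    simp only [Category.assoc, Iso.hom_inv_id_assoc]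
    rw [hw]
  have θ : (Scheme.Modules.pullback (Spec.map φ)).obj (tilde M) ≅
      (Scheme.Modules.pullback (Spec.map ψ)).obj (tilde P) :=
    (Scheme.Modules.pullback (Spec.map φ)).mapIso hMiso ≪≫
      (Scheme.Modules.pullbackComp (Spec.map φ) g).app F ≪≫
      (Scheme.Modules.pullbackCongr hcomm).app F ≪≫
      ((Scheme.Modules.pullbackComp (Spec.map ψ) c').app F).symm ≪≫
      ((Scheme.Modules.pullback (Spec.map ψ)).mapIso hPiso).symm
  obtain ⟨s, t, hs, ht⟩ := exists_presentation_of_cover B Γ(U, ⊤) Γ(V, ⊤) φ ψ m hNisφ M P θ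
    sP tP hsP htP
  subst hM
  exact ⟨s, t, hs, ht⟩

end Groth.Agent.H3.Nis2
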